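import Mathlib.Topology.Constructible
import Mathlib.Topology.NoetherianSpace
import Mathlib.Topology.LocallyClosed
import Mathlib.Topology.Sober
import Mathlib.Topology.GDelta.Basic
import Mathlib.Topology.Inseparable
import Mathlib.Topology.Spectral.Prespectral

/-!
Constructible sets in Noetherian and prespectral spaces (EGA 0_III 9.2, 0_IV 1.9).
-/

open Set TopologicalSpace Topology

namespace Groth.Agent.ConstrLib

variable {X : Type*} [TopologicalSpace X]

theorem isRetrocompact_of_noetherian [NoetherianSpace X] (s : Set X) : IsRetrocompact s :=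
  fun _ _ _ => NoetherianSpace.isCompact _

theorem isConstructible_of_isOpen [NoetherianSpace X] {s : Set X} (h : IsOpen s) : IsConstructible s :=
  (isRetrocompact_of_noetherian s).isConstructible h

theorem isConstructible_of_isClosed [NoetherianSpace X] {s : Set X} (h : IsClosed s) :
    IsConstructible s :=
  isConstructible_compl.1 (isConstructible_of_isOpen h.isOpen_compl)

theorem isConstructible_of_isLocallyClosed [NoetherianSpace X] {s : Set X} (h : IsLocallyClosed s) :
    IsConstructible s := by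
  obtain ⟨U, Z, hU, hZ, rfl⟩ := h
  exact (isConstructible_of_isOpen hU).inter (isConstructible_of_isClosed hZ)

/-- Induction on constructible sets: differences of open retrocompact sets, and unions. -/
theorem sdiff_union_induction {p : Set X → Prop}
    (hd : ∀ U V : Set X, IsOpen U → IsRetrocompact U → IsOpen V → IsRetrocompact V → p (U \ V))
    (hu : ∀ s t, p s → p t → p (s ∪ t)) {s : Set X} (hs : IsConstructible s) : p s := by
  induction s, hs using BooleanSubalgebra.closure_sdiff_sup_induction with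
  | isSublattice =>
    exact ⟨fun s hs t ht ↦ ⟨hs.1.union ht.1, hs.2.union ht.2⟩,
      fun s hs t ht ↦ ⟨hs.1.inter ht.1, hs.2.inter_isOpen ht.2 ht.1⟩⟩
  | bot_mem => exact ⟨isOpen_empty, .empty⟩
  | top_mem => exact ⟨isOpen_univ, .univ⟩
  | sdiff U hU V hV => exact hd U V hU.1 hU.2 hV.1 hV.2
  | sup s _ t _ hs ht => exact hu s t hs ht

theorem isRetrocompact_of_isConstructible {s : Set X} (hs : IsConstructible s) : IsRetrocompact s := by
  refine sdiff_union_induction (p := IsRetrocompact) ?_ (fun _ _ hs ht => hs.union ht) hs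
  intro U V _ hUc hVo _ W hWc hWo
  have := (hUc hWc hWo).inter_right hVo.isClosed_compl
  rwa [sdiff_eq, inter_right_comm]

theorem exists_locallyClosed_cover {s : Set X} (hs : IsConstructible s) :
    ∃ S : Set (Set X), S.Finite ∧ (∀ t ∈ S, IsLocallyClosed t) ∧ s = ⋃₀ S := by
  refine sdiff_union_induction
    (p := fun s => ∃ S : Set (Set X), S.Finite ∧ (∀ t ∈ S, IsLocallyClosed t) ∧ s = ⋃₀ S) ?_ ?_ hs
  · intro U V hU _ hV _
    exact ⟨{U \ V}, finite_singleton _, by simp [sdiff_eq, hU.isLocallyClosed.inter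
      hV.isClosed_compl.isLocallyClosed], by simp⟩
  · rintro s t ⟨S, hS, hS', rfl⟩ ⟨T, hT, hT', rfl⟩
    exact ⟨S ∪ T, hS.union hT, fun a ha => ha.elim (hS' a) (hT' a), (sUnion_union S T).symm⟩

/-- An irreducible set in which a finite union of locally closed sets is dense meets it in a
nonempty relatively open subset. -/
theorem exists_open_subset_of_dense {Z E : Set X} (hZ : IsIrreducible Z) {S : Set (Set X)}
    (hSf : S.Finite) (hSl : ∀ t ∈ S, IsLocallyClosed t) (hE : E = ⋃₀ S)
    (hd : Z ⊆ closure (E ∩ Z)) : ∃ U : Set X, IsOpen U ∧ (U ∩ Z).Nonempty ∧ U ∩ Z ⊆ E := by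
  classical
  have h1 := isIrreducible_iff_sUnion_isClosed.1 hZ
    (hSf.toFinset.image fun t => closure (t ∩ Z)) (by
      intro z hz
      obtain ⟨t, -, rfl⟩ := Finset.mem_image.1 hz
      exact isClosed_closure) (by
      refine hd.trans ?_
      rw [hE, sUnion_eq_biUnion, iUnion₂_inter, hSf.closure_biUnion]
      intro z hz
      obtain ⟨t, ht, hzt⟩ := mem_iUnion₂.1 hz
      exact ⟨closure (t ∩ Z), by simpa using ⟨t, ht, rfl⟩, hzt⟩)
  obtain ⟨z, hz, hZz⟩ := h1
  obtain ⟨t, ht, rfl⟩ := Finset.mem_image.1 hz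
  rw [hSf.mem_toFinset] at ht
  obtain ⟨U, F, hU, hF, rfl⟩ := hSl t ht
  have hne : ((U ∩ F) ∩ Z).Nonempty := by
    obtain ⟨a, ha⟩ := hZ.1
    exact closure_nonempty_iff.1 ⟨a, hZz ha⟩
  have hZF : Z ⊆ F := hZz.trans (closure_minimal (fun a ha => ha.1.2) hF)
  obtain ⟨a, ⟨haU, -⟩, haZ⟩ := hne
  exact ⟨U, hU, ⟨a, haU, haZ⟩, fun b hb => hE ▸ ⟨U ∩ F, ht, hb.1, hZF hb.2⟩⟩

theorem exists_open_subset_of_dense_constructible {Z E : Set X} (hZ : IsIrreducible Z)
    (hE : IsConstructible E) (hd : Z ⊆ closure (E ∩ Z)) :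
    ∃ U : Set X, IsOpen U ∧ (U ∩ Z).Nonempty ∧ U ∩ Z ⊆ E := by
  obtain ⟨S, hSf, hSl, hS⟩ := exists_locallyClosed_cover hE
  exact exists_open_subset_of_dense hZ hSf hSl hS hd

theorem subset_closure_of_open_subset {Z E U : Set X} (hZ : IsPreirreducible Z) (hU : IsOpen U)
    (hne : (U ∩ Z).Nonempty) (hsub : U ∩ Z ⊆ E) : Z ⊆ closure (E ∩ Z) := by
  refine (subset_closure_inter_of_isPreirreducible_of_isOpen hZ hU (by rwa [inter_comm])).trans
    (closure_mono ?_)
  rintro a ⟨ha, haU⟩
  exact ⟨hsub ⟨haU, ha⟩, ha⟩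

theorem mem_of_generic {Z U : Set X} (hU : IsOpen U) (hne : (U ∩ Z).Nonempty) {ξ : X}
    (hξ : Z ⊆ closure {ξ}) : ξ ∈ U := by
  obtain ⟨a, haU, haZ⟩ := hne
  exact (specializes_iff_mem_closure.2 (hξ haZ)).mem_open hU haU

/-- Noetherian induction on closed subsets, reduced to the irreducible ones. -/
theorem irreducible_induction [NoetherianSpace X] {P : Set X → Prop} (h0 : P ∅)
    (hu : ∀ A B, IsClosed A → IsClosed B → P A → P B → P (A ∪ B))
    (hi : ∀ F, IsClosed F → IsIrreducible F → (∀ F', IsClosed F' → F' ⊂ F → P F') → P F)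
    {F : Set X} (hF : IsClosed F) : P F := by
  lift F to Closeds X using hF
  refine wellFounded_lt.induction (C := fun F : Closeds X => P F) F fun F ih => ?_
  · have ih' : ∀ F', IsClosed F' → F' ⊂ (F : Set X) → P F' := fun F' h h' => ih ⟨F', h⟩ h'
    rcases (F : Set X).eq_empty_or_nonempty with e | hne
    · exact e ▸ h0
    by_cases hp : IsPreirreducible (F : Set X)
    · exact hi _ F.isClosed ⟨hne, hp⟩ ih'
    simp only [isPreirreducible_iff_isClosed_union_isClosed, not_forall, not_or] at hp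
    obtain ⟨z₁, z₂, hz₁, hz₂, h, h1, h2⟩ := hp
    have e : (F : Set X) = ((F : Set X) ∩ z₁) ∪ ((F : Set X) ∩ z₂) := by
      rw [← inter_union_distrib_left, inter_eq_left.2 h]
    rw [e]
    exact hu _ _ (F.isClosed.inter hz₁) (F.isClosed.inter hz₂)
      (ih' _ (F.isClosed.inter hz₁) ⟨inter_subset_left, fun hs => h1 fun a ha => (hs ha).2⟩)
      (ih' _ (F.isClosed.inter hz₂) ⟨inter_subset_left, fun hs => h2 fun a ha => (hs ha).2⟩)

theorem sdiff_open_ssubset {F U : Set X} (hne : (U ∩ F).Nonempty) : F \ U ⊂ F := by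
  refine ⟨sdiff_subset, fun h => ?_⟩
  obtain ⟨a, haU, haF⟩ := hne
  exact (h haF).2 haU

/-- `E` is a neighbourhood of `x` as soon as it contains a nonempty relatively open subset of every
closed irreducible set through `x`. -/
theorem mem_nhds_of_forall_irreducible [NoetherianSpace X] {E : Set X} {x : X}
    (h : ∀ Y, IsClosed Y → IsIrreducible Y → x ∈ Y → ∃ U, IsOpen U ∧ (U ∩ Y).Nonempty ∧ U ∩ Y ⊆ E) :
    E ∈ nhds x := by
  have key : ∃ U, IsOpen U ∧ x ∈ U ∧ U ∩ univ ⊆ E := by
    refine irreducible_induction (P := fun F => ∃ U, IsOpen U ∧ x ∈ U ∧ U ∩ F ⊆ E) ?_ ?_ ?_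
      isClosed_univ
    · exact ⟨univ, isOpen_univ, trivial, by simp⟩
    · rintro A B - - ⟨U, hU, hxU, hUA⟩ ⟨V, hV, hxV, hVB⟩
      exact ⟨U ∩ V, hU.inter hV, ⟨hxU, hxV⟩, fun a ⟨ha, ha'⟩ =>
        ha'.elim (fun h => hUA ⟨ha.1, h⟩) (fun h => hVB ⟨ha.2, h⟩)⟩
    · intro F hF hFi ih
      by_cases hx : x ∈ F
      · obtain ⟨U, hU, hne, hsub⟩ := h F hF hFi hx
        obtain ⟨V, hV, hxV, hVF⟩ := ih _ (hF.sdiff hU) (sdiff_open_ssubset hne)
        refine ⟨V, hV, hxV, fun a ⟨haV, haF⟩ => ?_⟩
        by_cases haU : a ∈ U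
        · exact hsub ⟨haU, haF⟩
        · exact hVF ⟨haV, haF, haU⟩
      · exact ⟨Fᶜ, hF.isOpen_compl, hx, by simp⟩
  obtain ⟨U, hU, hxU, hUE⟩ := key
  exact Filter.mem_of_superset (hU.mem_nhds hxU) (by simpa using hUE)

theorem isOpen_of_stableUnderGeneralization [NoetherianSpace X] [QuasiSober X] {E : Set X}
    (hE : IsConstructible E) (hs : StableUnderGeneralization E) : IsOpen E := by
  refine isOpen_iff_mem_nhds.2 fun x hx => mem_nhds_of_forall_irreducible fun Y hY hYi hxY => ?_
  obtain ⟨ξ, hξ⟩ := QuasiSober.sober hYi hY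
  refine exists_open_subset_of_dense_constructible hYi hE ?_
  have hξE : ξ ∈ E := hs (hξ.specializes hxY) hx
  exact hξ.def.symm.subset.trans (closure_mono (singleton_subset_iff.2 ⟨hξE, hξ.mem⟩))

theorem exists_univ_of_directed [NoetherianSpace X] {ι : Type*} [Preorder ι] [IsDirected ι (· ≤ ·)]
    [Nonempty ι] {E : ι → Set X} (hmono : Monotone E) (hE : ∀ a, IsConstructible (E a))
    (hirr : ∀ Y : Set X, IsClosed Y → IsIrreducible Y → ∃ a, Y ⊆ closure (E a ∩ Y)) :
    ∃ a, E a = univ := by
  have : ∃ a, univ ⊆ E a := by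
    refine irreducible_induction (P := fun F => ∃ a, F ⊆ E a) ⟨Classical.arbitrary ι, empty_subset _⟩
      ?_ ?_ isClosed_univ
    · rintro A B - - ⟨a, ha⟩ ⟨b, hb⟩
      obtain ⟨c, hac, hbc⟩ := exists_ge_ge a b
      exact ⟨c, union_subset (ha.trans (hmono hac)) (hb.trans (hmono hbc))⟩
    · intro F hF hFi ih
      obtain ⟨a, ha⟩ := hirr F hF hFi
      obtain ⟨U, hU, hne, hsub⟩ := exists_open_subset_of_dense_constructible hFi (hE a) ha
      obtain ⟨b, hb⟩ := ih _ (hF.sdiff hU) (sdiff_open_ssubset hne)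
      obtain ⟨c, hac, hbc⟩ := exists_ge_ge a b
      refine ⟨c, fun y hy => ?_⟩
      by_cases hyU : y ∈ U
      · exact hmono hac (hsub ⟨hyU, hy⟩)
      · exact hmono hbc (hb ⟨hy, hyU⟩)
  obtain ⟨a, ha⟩ := this
  exact ⟨a, univ_subset_iff.1 ha⟩

theorem exists_compact_open_between [PrespectralSpace X] {W O : Set X} (hW : IsCompact W)
    (hO : IsOpen O) (h : W ⊆ O) : ∃ W', IsOpen W' ∧ IsCompact W' ∧ W ⊆ W' ∧ W' ⊆ O := by
  choose V hV hxV hVO using fun x : W =>
    PrespectralSpace.isTopologicalBasis.exists_subset_of_mem_open (h x.2) hO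
  obtain ⟨t, ht⟩ := hW.elim_finite_subcover V (fun x => (hV x).1)
    fun x hx => mem_iUnion.2 ⟨⟨x, hx⟩, hxV _⟩
  exact ⟨⋃ i ∈ t, V i, isOpen_biUnion fun i _ => (hV i).1, t.isCompact_biUnion fun i _ => (hV i).2,
    ht, iUnion₂_subset fun i _ => hVO i⟩

/-- A compact open subset of a subspace is the trace of a compact open. -/
theorem exists_compact_open_trace [PrespectralSpace X] {T : Set X} {W : Set T} (hW : IsCompact W)
    (hWo : IsOpen W) :
    ∃ W', IsOpen W' ∧ IsCompact W' ∧ Subtype.val ⁻¹' W' = W := by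
  obtain ⟨O, hO, rfl⟩ := isOpen_induced_iff.1 hWo
  obtain ⟨W', hW'o, hW'c, h1, h2⟩ :=
    exists_compact_open_between (hW.image continuous_subtype_val) hO (image_preimage_subset _ _)
  exact ⟨W', hW'o, hW'c, Subset.antisymm (preimage_mono h2) fun a ha => h1 ⟨a, ha, rfl⟩⟩

theorem isRetrocompact_preimage_val [PrespectralSpace X] {T : Set X} (hT : IsRetrocompact T)
    {U : Set X} (hU : IsOpen U) (hUc : IsRetrocompact U) :
    IsRetrocompact ((Subtype.val : T → X) ⁻¹' U) := by
  intro W hW hWo
  obtain ⟨W', hW'o, hW'c, rfl⟩ := exists_compact_open_trace hW hWo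
  rw [← preimage_inter]
  exact (IsRetrocompact_iff_isSpectralMap_subtypeVal.1 hT).isCompact_preimage_of_isOpen
    (hU.inter hW'o) (hUc hW'c hW'o)

theorem isConstructible_preimage_val [PrespectralSpace X] {T : Set X} (hT : IsRetrocompact T)
    {E : Set X} (hE : IsConstructible E) : IsConstructible ((Subtype.val : T → X) ⁻¹' E) :=
  hE.preimage continuous_subtype_val fun _ => isRetrocompact_preimage_val hT

theorem prespectralSpace_subtype [PrespectralSpace X] {T : Set X} (hT : IsRetrocompact T) :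
    PrespectralSpace T :=
  PrespectralSpace.of_isInducing _ IsInducing.subtypeVal
    (IsRetrocompact_iff_isSpectralMap_subtypeVal.1 hT)

/-- Constructible in a difference of open retrocompact sets implies constructible. -/
theorem isConstructible_image_sdiff {U V : Set X} (hU : IsOpen U) (hUc : IsRetrocompact U)
    (hV : IsOpen V) (hVc : IsRetrocompact V) {F : Set (U \ V : Set X)} (hF : IsConstructible F) :
    IsConstructible ((Subtype.val : (U \ V : Set X) → X) '' F) := by
  let g : (U \ V : Set X) → U := Set.inclusion sdiff_subset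
  have hr : range g = (Subtype.val : U → X) ⁻¹' Vᶜ := by
    rw [Set.range_inclusion]
    ext a
    simp [a.2]
  have hg : IsClosedEmbedding g :=
    ⟨IsEmbedding.inclusion sdiff_subset, hr ▸ hV.isClosed_compl.preimage continuous_subtype_val⟩
  have hgr : IsRetrocompact (range g)ᶜ := by
    rw [hr, ← preimage_compl, compl_compl]
    exact hVc.preimage_of_isOpenEmbedding hU.isOpenEmbedding_subtypeVal
  have h1 := (hF.image_of_isClosedEmbedding hg hgr).image_of_isOpenEmbedding
    hU.isOpenEmbedding_subtypeVal (by simpa using hUc)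
  rw [image_image] at h1
  exact h1

theorem isConstructible_inter_of_trace [PrespectralSpace X] {E : Set X} (hE : IsConstructible E)
    {A : Set X} (hA : IsConstructible ((Subtype.val : E → X) ⁻¹' A)) :
    IsConstructible (A ∩ E) := by
  have key : E ⊆ E → IsConstructible (A ∩ E) := by
    refine sdiff_union_induction (p := fun s => s ⊆ E → IsConstructible (A ∩ s)) ?_ ?_ hE
    · intro U V hU hUc hV hVc hsub
      let i : (U \ V : Set X) → E := Set.inclusion hsub
      have hP : IsConstructible (U \ V) := (hUc.isConstructible hU).sdiff (hVc.isConstructible hV)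
      have h1 : IsConstructible (i ⁻¹' ((Subtype.val : E → X) ⁻¹' A)) := by
        refine hA.preimage (continuous_inclusion hsub) fun s hs hsc => ?_
        intro W hW hWo
        obtain ⟨W', hW'o, hW'c, rfl⟩ := exists_compact_open_trace hW hWo
        have hEr := isRetrocompact_of_isConstructible hE
        have hWE : IsCompact ((Subtype.val : E → X) ⁻¹' W') :=
          (IsRetrocompact_iff_isSpectralMap_subtypeVal.1 hEr).isCompact_preimage_of_isOpen hW'o hW'c
        have hWEo : IsOpen ((Subtype.val : E → X) ⁻¹' W') := hW'o.preimage continuous_subtype_val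
        have := prespectralSpace_subtype hEr
        have hPr : IsRetrocompact ((Subtype.val : E → X) ⁻¹' (U \ V)) :=
          isRetrocompact_of_isConstructible (isConstructible_preimage_val hEr hP)
        have h2 := (hPr (hsc hWE hWEo) (hs.inter hWEo)).image continuous_subtype_val
        rw [IsEmbedding.subtypeVal.isCompact_iff]
        convert! h2 using 1
        ext a
        constructor
        · rintro ⟨b, ⟨hb1, hb2⟩, rfl⟩
          exact ⟨i b, ⟨b.2, hb1, hb2⟩, rfl⟩
        · rintro ⟨b, ⟨hb1, hb2, hb3⟩, rfl⟩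
          exact ⟨⟨b.1, hb1⟩, ⟨hb2, hb3⟩, rfl⟩
      have h3 := isConstructible_image_sdiff hU hUc hV hVc h1
      convert! h3 using 1
      ext a
      constructor
      · rintro ⟨ha, hP⟩; exact ⟨⟨a, hP⟩, ha, rfl⟩
      · rintro ⟨b, hb, rfl⟩; exact ⟨hb, b.2⟩
    · intro s t hs ht hst
      rw [inter_union_distrib_left]
      exact (hs (subset_union_left.trans hst)).union (ht (subset_union_right.trans hst))
  exact key subset_rfl

/-- A constructible set is determined by finitely many open retrocompact sets. -/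
theorem exists_finite_determining {s : Set X} (hs : IsConstructible s) :
    ∃ G : Set (Set X), G.Finite ∧ (∀ g ∈ G, IsOpen g ∧ IsRetrocompact g) ∧
      ∀ x y, (∀ g ∈ G, (x ∈ g ↔ y ∈ g)) → (x ∈ s ↔ y ∈ s) := by
  induction hs using IsConstructible.empty_union_induction with
  | open_retrocompact U hUo hUc =>
    exact ⟨{U}, finite_singleton _, by simp [hUo, hUc], fun x y h => h U rfl⟩
  | union s hs t ht hs' ht' =>
    obtain ⟨G, hG, hG', hGs⟩ := hs'
    obtain ⟨H, hH, hH', hHt⟩ := ht'
    refine ⟨G ∪ H, hG.union hH, fun g hg => hg.elim (hG' g) (hH' g), fun x y h => ?_⟩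
    exact or_congr (hGs x y fun g hg => h g (.inl hg)) (hHt x y fun g hg => h g (.inr hg))
  | compl s hs hs' =>
    obtain ⟨G, hG, hG', hGs⟩ := hs'
    exact ⟨G, hG, hG', fun x y h => not_congr (hGs x y h)⟩

end Groth.Agent.ConstrLib
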